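import Cfsg.Agent.H226.Tall.Defs
import Cfsg.Agent.EvenType.CharTwoCent
import Cfsg.Agent.H55.OutGen
import Cfsg.Agent.S2060
import Cfsg.Agent.S2063
import Cfsg.Agent.S2064
import Cfsg.Agent.S2068
import Cfsg.Agent.S2070
import Cfsg.Agent.S2083
import Cfsg.Agent.OddHalf.Small.Plug
import Cfsg.Agent.OddHalf.Small.Mathieu
import Cfsg.Agent.OddHalf.Small.M24Char
import Cfsg.Agent.SevenCases.SporJ4
import Cfsg.Agent.SevenCases.SporCo2
import Cfsg.Agent.SevenCases.SporTh
import Cfsg.Agent.S0435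
import Cfsg.Agent.H992.Stages.Mathieu
import Cfsg.Agent.MonsterX.ThOneClass
import Cfsg.Agent.KFacts.CoTwo.RFin
import Cfsg.Agent.J4Type.CloseInst
import Cfsg.Agent.J4Type.FinalGen

/-!
# S2927, task 5475 (SPOUT): M11, M23, M24, J4, Co2, Th (helper701)

For these groups `K`: all involution centralizers are of characteristic 2 (`allCP_x`), every automorphism is inner
(`out_x`), and no centralizer of a 2-central involution is a 2-group (`rowTwo_x`).
-/

set_option autoImplicit false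

namespace Cfsg.Agent.H701.Tall

open Subgroup Cfsg
open Cfsg.Agent.H239.CharPLocal (CP)
open Cfsg.Agent.H226.Tall

universe u

/-! ### Tools -/

theorem cp_of_charTwo {K : Type*} [Group K] (h : IsCharacteristicTwoType K) {x : K} (hx : orderOf x = 2) :
    CP 2 ↥(centralizer ({x} : Set K)) :=
  EvenType.CharTwoCent.char2_centralizer h hx

theorem inner_of {K T : Type*} [Group K] [Group T] (h : Nonempty (K ≃* T)) (hT : Nat.card (Out T) = 1)
    (x : MulAut K) : ∃ g : K, x = MulAut.conj g := by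
  obtain ⟨e⟩ := h
  have h1 : (Inn K).index = 1 := by
    have := H55.OutGen.card_out_congr e
    rw [hT] at this
    exact this
  rw [Subgroup.index_eq_one] at h1
  have h2 : x ∈ Inn K := h1 ▸ mem_top x
  obtain ⟨g, hg⟩ := h2
  exact ⟨g, hg.symm⟩

/-- a group with an element of odd order `q > 1` is not a 2-group -/
theorem not_two_of_elt {K : Type*} [Group K] {z y : K} {q : ℕ} (hq : Odd q) (hq1 : q ≠ 1) (hy : orderOf y = q)
    (hc : y * z = z * y) : ¬ IsPGroup 2 ↥(centralizer ({z} : Set K)) := by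
  intro h
  obtain ⟨k, hk⟩ := h ⟨y, mem_centralizer_singleton_iff.2 hc⟩
  have h1 : y ^ 2 ^ k = 1 := congrArg Subtype.val hk
  have h2 := orderOf_dvd_of_pow_eq_one h1
  rw [hy] at h2
  have h3 : Nat.Coprime q (2 ^ k) := Nat.Coprime.pow_right k (Nat.coprime_two_right.2 hq)
  exact hq1 (Nat.eq_one_of_dvd_coprimes h3 dvd_rfl h2)

/-- a centralizer whose order is divisible by an odd prime is not a 2-group -/
theorem not_two_of_dvd {K : Type*} [Group K] [Finite K] {z : K} {q : ℕ} (hq : q.Prime) (hq2 : q ≠ 2)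
    (h : q ∣ Nat.card ↥(centralizer ({z} : Set K))) : ¬ IsPGroup 2 ↥(centralizer ({z} : Set K)) := by
  intro hp
  obtain ⟨n, hn⟩ := IsPGroup.iff_card.1 hp
  rw [hn] at h
  exact hq2 ((Nat.prime_dvd_prime_iff_eq hq Nat.prime_two).1 (hq.dvd_of_dvd_pow h))

/-- the centralizers of conjugate elements -/
theorem not_two_of_conj {K : Type*} [Group K] {z z' g : K} (h : g * z * g⁻¹ = z')
    (hz : ¬ IsPGroup 2 ↥(centralizer ({z} : Set K))) : ¬ IsPGroup 2 ↥(centralizer ({z'} : Set K)) := by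
  intro hp
  apply hz
  rintro ⟨x, hx⟩
  rw [mem_centralizer_singleton_iff] at hx
  have hx' : (g * x * g⁻¹) * z' = z' * (g * x * g⁻¹) := by
    rw [← h]
    calc g * x * g⁻¹ * (g * z * g⁻¹) = g * (x * z) * g⁻¹ := by group
      _ = g * (z * x) * g⁻¹ := by rw [hx]
      _ = _ := by group
  obtain ⟨k, hk⟩ := hp ⟨g * x * g⁻¹, mem_centralizer_singleton_iff.2 hx'⟩
  refine ⟨k, Subtype.ext ?_⟩
  have h1 : (g * x * g⁻¹) ^ 2 ^ k = 1 := congrArg Subtype.val hk
  rw [conj_pow] at h1
  show x ^ 2 ^ k = 1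
  calc x ^ 2 ^ k = g⁻¹ * (g * x ^ 2 ^ k * g⁻¹) * g := by group
    _ = 1 := by rw [h1]; group

theorem not_two_of_isConj {K : Type*} [Group K] {z z' : K} (h : IsConj z z')
    (hz : ¬ IsPGroup 2 ↥(centralizer ({z} : Set K))) : ¬ IsPGroup 2 ↥(centralizer ({z'} : Set K)) := by
  obtain ⟨g, hg⟩ := isConj_iff.1 h
  exact not_two_of_conj hg hz

/-- no centralizer of an involution is a 2-group -/
def NoTwo (K : Type*) [Group K] : Prop := ∀ z : K, orderOf z = 2 → ¬ IsPGroup 2 ↥(centralizer ({z} : Set K))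

theorem NoTwo.rowTwo {K : Type*} [Group K] (h : NoTwo K) : RowTwo K := fun z hz => h z hz.1

theorem NoTwo.congr {K L : Type*} [Group K] [Group L] (e : K ≃* L) (h : NoTwo L) : NoTwo K := by
  intro z hz hp
  refine h (e z) (by rw [← hz]; exact orderOf_injective e.toMonoidHom e.injective z) ?_
  rintro ⟨x, hx⟩
  rw [mem_centralizer_singleton_iff] at hx
  have hx' : e.symm x * z = z * e.symm x := by
    apply e.injective
    rw [map_mul, map_mul, e.apply_symm_apply, hx]
  obtain ⟨k, hk⟩ := hp ⟨e.symm x, mem_centralizer_singleton_iff.2 hx'⟩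
  refine ⟨k, Subtype.ext ?_⟩
  have h1 : (e.symm x) ^ 2 ^ k = 1 := congrArg Subtype.val hk
  rw [← map_pow] at h1
  exact (map_eq_one_iff e.symm e.symm.injective).1 h1

theorem RowTwo.congr' {K L : Type*} [Group K] [Group L] (e : K ≃* L) (h : RowTwo L) : RowTwo K := by
  rintro z ⟨hz, P, hP⟩ hp
  have hPc : (((P.comapOfInjective e.symm.toMonoidHom e.symm.injective (by
      rw [MonoidHom.range_eq_top.2 e.symm.surjective]; exact le_top) : Sylow 2 L) : Subgroup L)) ≤
      centralizer ({e z} : Set L) := by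
    intro x hx
    have h1 : e.symm x ∈ (P : Subgroup K) := hx
    have h2 := mem_centralizer_singleton_iff.1 (hP h1)
    rw [mem_centralizer_singleton_iff]
    have h3 := congrArg e h2
    rwa [map_mul, map_mul, e.apply_symm_apply] at h3
  refine h (e z) ⟨by rw [← hz]; exact orderOf_injective e.toMonoidHom e.injective z, _, hPc⟩ ?_
  rintro ⟨x, hx⟩
  rw [mem_centralizer_singleton_iff] at hx
  have hx' : e.symm x * z = z * e.symm x := by
    apply e.injective
    rw [map_mul, map_mul, e.apply_symm_apply, hx]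
  obtain ⟨k, hk⟩ := hp ⟨e.symm x, mem_centralizer_singleton_iff.2 hx'⟩
  refine ⟨k, Subtype.ext ?_⟩
  have h1 : (e.symm x) ^ 2 ^ k = 1 := congrArg Subtype.val hk
  rw [← map_pow] at h1
  exact (map_eq_one_iff e.symm e.symm.injective).1 h1

/-- **A 2-central involution is conjugate to `z`, if `Q` is large with centre `⟨z⟩` and `C(z)` has odd index.** -/
theorem conj_of_large {K : Type*} [Group K] [Finite K] {Q : Subgroup K} {z : K} (h : Co2Type.Quad.Large Q z)
    (hodd : Odd (centralizer ({z} : Set K)).index) {z' : K} (hz' : TwoC z') : ∃ g : K, g * z * g⁻¹ = z' := by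
  obtain ⟨ho, P, hP⟩ := hz'
  have : Fact (Nat.Prime 2) := ⟨Nat.prime_two⟩
  -- a Sylow 2-subgroup of `C(z)`
  obtain ⟨S₀⟩ : Nonempty (Sylow 2 ↥(centralizer ({z} : Set K))) := inferInstance
  have hS2 : IsPGroup 2 (S₀.toSubgroup.map (centralizer ({z} : Set K)).subtype) :=
    S₀.isPGroup'.map _
  have hidx : ¬ 2 ∣ (S₀.toSubgroup.map (centralizer ({z} : Set K)).subtype).index := by
    have h1 := Subgroup.relIndex_mul_index (H := S₀.toSubgroup.map (centralizer ({z} : Set K)).subtype)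
      (K := centralizer ({z} : Set K)) (Subgroup.map_subtype_le _)
    have h2 : (S₀.toSubgroup.map (centralizer ({z} : Set K)).subtype).relIndex (centralizer ({z} : Set K)) =
        S₀.toSubgroup.index := by
      rw [Subgroup.relIndex, Subgroup.subgroupOf, Subgroup.comap_map_eq_self_of_injective
        (centralizer ({z} : Set K)).subtype_injective]
    rw [h2] at h1
    rw [← h1]
    intro h3
    rcases (Nat.Prime.dvd_mul Nat.prime_two).1 h3 with h4 | h4
    · exact S₀.not_dvd_index h4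
    · rw [← Nat.not_even_iff_odd, even_iff_two_dvd] at hodd
      exact hodd h4
  let S : Sylow 2 K := hS2.toSylow hidx
  have hSC : (S : Subgroup K) ≤ centralizer ({z} : Set K) := Subgroup.map_subtype_le _
  -- `Q ≤ S`
  have hQ2 : IsPGroup 2 ↥Q := by
    rintro ⟨x, hx⟩
    refine ⟨2, Subtype.ext ?_⟩
    show x ^ 2 ^ 2 = 1
    rcases h.sq x hx with h1 | h1
    · rw [show (2 : ℕ) ^ 2 = 2 * 2 from rfl, pow_mul, pow_two x, h1, one_pow]
    · rw [show (2 : ℕ) ^ 2 = 2 * 2 from rfl, pow_mul, pow_two x, h1, pow_two, h.z_sq]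
  obtain ⟨R, hR⟩ := hQ2.exists_le_sylow
  obtain ⟨a, ha⟩ := MulAction.exists_smul_eq K R S
  obtain ⟨b, hb⟩ := MulAction.exists_smul_eq K S P
  have hQS : ∀ q ∈ Q, q ∈ (S : Subgroup K) := by
    -- `Q` is normal in `C(z)`, so it is in every Sylow 2-subgroup of `C(z)`
    have hQn : (Q.subgroupOf (centralizer ({z} : Set K))).Normal := by
      refine ⟨fun x hx g => ?_⟩
      rw [mem_subgroupOf] at hx ⊢
      exact h.conj_mem g (mem_centralizer_singleton_iff.1 g.2) _ hx
    have hQp : IsPGroup 2 ↥(Q.subgroupOf (centralizer ({z} : Set K))) :=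
      hQ2.comap_of_injective _ (centralizer ({z} : Set K)).subtype_injective
    have hle := hQp.le_sylow_of_normal S₀
    intro q hq
    have hqC : q ∈ centralizer ({z} : Set K) := mem_centralizer_singleton_iff.2 (h.comm_z q hq)
    exact ⟨⟨q, hqC⟩, hle (mem_subgroupOf.2 hq), rfl⟩
  -- `b⁻¹ z' b` centralises `S`
  have hb' : ∀ s ∈ (S : Subgroup K), b * s * b⁻¹ ∈ (P : Subgroup K) := by
    intro s hs
    rw [← hb, Sylow.coe_subgroup_smul]
    exact Subgroup.smul_mem_pointwise_smul s (MulAut.conj b) _ hs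
  have hcomm : ∀ s ∈ (S : Subgroup K), s * (b⁻¹ * z' * b) = b⁻¹ * z' * b * s := by
    intro s hs
    have h1 := mem_centralizer_singleton_iff.1 (hP (hb' s hs))
    calc s * (b⁻¹ * z' * b) = b⁻¹ * (b * s * b⁻¹ * z') * b := by group
      _ = b⁻¹ * (z' * (b * s * b⁻¹)) * b := by rw [h1]
      _ = _ := by group
  have hzQ := hQS z h.z_mem
  have h1 : b⁻¹ * z' * b ∈ Q := by
    refine h.self _ (hcomm z hzQ).symm fun x hx => (hcomm x (hQS x hx)).symm
  have h2 := h.cent _ h1 fun y hy => (hcomm y (hQS y hy)).symm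
  refine ⟨b, ?_⟩
  rcases h2 with h3 | h3
  · exfalso
    have h4 : z' = 1 := by
      calc z' = b * (b⁻¹ * z' * b) * b⁻¹ := by group
        _ = 1 := by rw [h3]; group
    rw [h4, orderOf_one] at ho
    norm_num at ho
  · rw [← h3]; group

/-! ### The groups -/

section M11

variable {K : Type*} [Group K]

theorem allCP_m11 (h : Spor.IsoM11 K) (x : K) (hx : orderOf x = 2) : CP 2 ↥(centralizer ({x} : Set K)) :=
  cp_of_charTwo (OddHalf.Small.M11.charTwo_of_iso h) hx

theorem out_m11 (h : Spor.IsoM11 K) (x : MulAut K) : ∃ g : K, x = MulAut.conj g := inner_of h S2060.result x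

theorem noTwo_m11 (h : Spor.IsoM11 K) : NoTwo K := by
  obtain ⟨e⟩ := h
  have h11 : IsM11 ↥Spor.M11 := Cit.Eleven.isM11 (L := ↥Spor.M11) ⟨MulEquiv.refl _⟩
  have hfin : Finite ↥Spor.M11 := Nat.finite_of_card_ne_zero (by rw [h11.2]; norm_num)
  refine NoTwo.congr e fun z hz => not_two_of_dvd Nat.prime_three (by norm_num) ?_
  rw [S0435.result h11 z hz]
  norm_num

theorem rowTwo_m11 (h : Spor.IsoM11 K) : RowTwo K := (noTwo_m11 h).rowTwo

end M11

section M23

variable {K : Type*} [Group K]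

theorem allCP_m23 (h : Spor.IsoM23 K) (x : K) (hx : orderOf x = 2) : CP 2 ↥(centralizer ({x} : Set K)) :=
  cp_of_charTwo (OddHalf.Small.Mathieu.m23 h) hx

theorem out_m23 (h : Spor.IsoM23 K) (x : MulAut K) : ∃ g : K, x = MulAut.conj g := inner_of h S2063.result x

theorem noTwo_m23 (h : Spor.IsoM23 K) : NoTwo K := by
  obtain ⟨e⟩ := h
  have hfin : Finite ↥Spor.M23 := Subtype.finite
  refine NoTwo.congr e fun z hz => not_two_of_dvd Nat.prime_three (by norm_num) ?_
  rw [H992.Stages.card_cent_m23 hz]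
  norm_num

theorem rowTwo_m23 (h : Spor.IsoM23 K) : RowTwo K := (noTwo_m23 h).rowTwo

end M23

section M24

variable {K : Type*} [Group K]

theorem allCP_m24 (h : Spor.IsoM24 K) (x : K) (hx : orderOf x = 2) : CP 2 ↥(centralizer ({x} : Set K)) :=
  cp_of_charTwo (OddHalf.Small.M24Char.m24 h) hx

theorem out_m24 (h : Spor.IsoM24 K) (x : MulAut K) : ∃ g : K, x = MulAut.conj g := inner_of h S2064.result x

theorem noTwo_m24 (h : Spor.IsoM24 K) : NoTwo K := by
  obtain ⟨e⟩ := h
  refine NoTwo.congr e fun u hu => ?_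
  have hu2 : u * u = 1 := by rw [← pow_two, ← hu, pow_orderOf_eq_one]
  have hu1 : u ≠ 1 := by
    rintro rfl
    rw [orderOf_one] at hu
    norm_num at hu
  rcases KFacts.M24Two.Count.conj_or u hu2 hu1 with ⟨g, hg⟩ | ⟨g, hg⟩
  · refine not_two_of_conj (g := g⁻¹) (z := KFacts.M24Two.Count.z) (by rw [← hg]; group) ?_
    refine not_two_of_dvd Nat.prime_three (by norm_num) ?_
    rw [KFacts.M24Two.Orders.card_centralizer_z]
    norm_num
  · refine not_two_of_conj (g := g⁻¹) (z := KFacts.M24Two.Count.w) (by rw [← hg]; group) ?_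
    refine not_two_of_dvd Nat.prime_three (by norm_num) ?_
    rw [KFacts.M24Two.Orders.card_centralizer_w]
    norm_num

theorem rowTwo_m24 (h : Spor.IsoM24 K) : RowTwo K := (noTwo_m24 h).rowTwo

end M24

section J4

open Cfsg.Agent.J4Type

variable {K : Type*} [Group K]

theorem allCP_j4 (h : Spor.IsoJ4 K) (x : K) (hx : orderOf x = 2) : CP 2 ↥(centralizer ({x} : Set K)) :=
  cp_of_charTwo (SevenCases.SporJ4.charTwo h) hx

theorem out_j4 (h : Spor.IsoJ4 K) (x : MulAut K) : ∃ g : K, x = MulAut.conj g := inner_of h S2068.result x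

/-- `ρ` centralises the involution of the first two fixed points -/
theorem rho_comm (F : J4Type.Compl K) : F.ρ * F.ε {mog 0 0, mog 1 0} = F.ε {mog 0 0, mog 1 0} * F.ρ := by
  obtain ⟨g, hg⟩ := F.φ_ρ
  have h0 : mog 0 0 ≠ mog 1 0 := by decide
  have h1 := F.ρ_tet ⟨F.φ g, F.φ_mem g⟩ hg
  rw [F.π_φ] at h1
  have h2 := FinalGen.Compl.conj_ε F g (S := {mog 0 0, mog 1 0}) (by rw [Finset.card_pair h0]; decide)
  rw [Finset.smul_finset_insert, Finset.smul_finset_singleton,
    show (g : Equiv.Perm GolayPt) • mog 0 0 = mog 0 0 from (h1 0).1,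
    show (g : Equiv.Perm GolayPt) • mog 1 0 = mog 1 0 from (h1 1).1, hg] at h2
  calc F.ρ * F.ε {mog 0 0, mog 1 0} = F.ρ * F.ε {mog 0 0, mog 1 0} * F.ρ⁻¹ * F.ρ := by group
    _ = _ := by rw [h2]

theorem duad_conj (F : J4Type.Compl K) {p q : GolayPt} (h : p ≠ q) :
    ∃ g : K, g * F.ε {mog 0 0, mog 1 0} * g⁻¹ = F.ε {p, q} := by
  have h0 : mog 0 0 ≠ mog 1 0 := by decide
  obtain ⟨m, h1, h2⟩ := J4Type.CloseInst.exists_two h0 h
  refine ⟨F.φ m, ?_⟩
  rw [FinalGen.Compl.conj_ε F m (S := {mog 0 0, mog 1 0}) (by rw [Finset.card_pair h0]; decide),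
    Finset.smul_finset_insert, Finset.smul_finset_singleton,
    show (m : Equiv.Perm GolayPt) • mog 0 0 = p from h1, show (m : Equiv.Perm GolayPt) • mog 1 0 = q from h2]

theorem noTwo_j4 (h : Spor.IsoJ4 K) : NoTwo K := by
  obtain ⟨hfin, hs, ⟨F⟩⟩ := KFacts.J4.Base.exists_full h
  intro u hu
  have hu2 : u * u = 1 := by rw [← pow_two, ← hu, pow_orderOf_eq_one]
  have hu1 : u ≠ 1 := by
    rintro rfl
    rw [orderOf_one] at hu
    norm_num at hu
  rcases KFacts.J4.DFour.classes F.C hu2 hu1 with ⟨g, hg⟩ | ⟨p, q, g, hpq, hg⟩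
  · exact not_two_of_conj hg (not_two_of_elt (q := 3) (by decide) (by norm_num) F.C.ρ_order F.C.ρ_comm)
  · refine not_two_of_conj hg ?_
    obtain ⟨g', hg'⟩ := duad_conj F.C hpq
    exact not_two_of_conj hg' (not_two_of_elt (q := 3) (by decide) (by norm_num) F.C.ρ_order (rho_comm F.C))

theorem rowTwo_j4 (h : Spor.IsoJ4 K) : RowTwo K := (noTwo_j4 h).rowTwo

end J4

section Co2

variable {K : Type*} [Group K]

theorem allCP_co2 (h : Spor.IsoCo2 K) (x : K) (hx : orderOf x = 2) : CP 2 ↥(centralizer ({x} : Set K)) :=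
  cp_of_charTwo (SevenCases.SporCo2.charTwo h) hx

theorem out_co2 (h : Spor.IsoCo2 K) (x : MulAut K) : ∃ g : K, x = MulAut.conj g := inner_of h S2070.result x

theorem rowTwo_co2 (h : Spor.IsoCo2 K) : RowTwo K := by
  obtain ⟨e⟩ := h
  have hfin : Finite Spor.Co2 := SevenCases.SporCo2.finite
  refine RowTwo.congr' e fun z hz => ?_
  obtain ⟨g, hg⟩ := conj_of_large KFacts.CoTwo.RLarge.large KFacts.CoTwo.RIrr.hodd hz
  exact not_two_of_conj hg (not_two_of_dvd Nat.prime_five (by norm_num) KFacts.CoTwo.RFin.five_dvd)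

end Co2

section Th

variable {K : Type*} [Group K]

theorem allCP_th (h : Spor.IsoTh K) (x : K) (hx : orderOf x = 2) : CP 2 ↥(centralizer ({x} : Set K)) :=
  cp_of_charTwo (SevenCases.SporTh.charTwo h) hx

theorem out_th (h : Spor.IsoTh K) (x : MulAut K) : ∃ g : K, x = MulAut.conj g := inner_of h S2083.result x

theorem noTwo_th (h : Spor.IsoTh K) : NoTwo K := by
  obtain ⟨e⟩ := h
  have hfin : Finite Spor.Th := Th.Main1700.final.1
  refine NoTwo.congr e fun z hz => not_two_of_dvd Nat.prime_three (by norm_num) ?_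
  rw [MonsterX.ThOneClass.card_centralizer hz]
  norm_num

theorem rowTwo_th (h : Spor.IsoTh K) : RowTwo K := (noTwo_th h).rowTwo

end Th

end Cfsg.Agent.H701.Tall
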